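import Cfsg.Agent.H886.Sq.Comb

/-!
# Even sign changes and even permutations: the structure `Big` (helper886)
-/

set_option autoImplicit false
set_option linter.unusedSectionVars false

namespace Cfsg.Agent.H886.Sq

open Cfsg.Agent.H888.C6

variable {ι : Type} [Fintype ι] [DecidableEq ι]

theorem choose_two_le {N k : ℕ} (h1 : 2 ≤ k) (h2 : k + 2 ≤ N) : N.choose 2 ≤ N.choose k := by
  have key : ∀ j, 2 ≤ j → j ≤ N / 2 → N.choose 2 ≤ N.choose j := by
    intro j hj
    induction j, hj using Nat.le_induction with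
    | base => intro _; exact le_rfl
    | succ j hj ih =>
      intro h
      exact (ih (by omega)).trans (Nat.choose_le_succ_of_lt_half_left (by omega))
  by_cases h : k ≤ N / 2
  · exact key k h1 h
  · rw [← Nat.choose_symm (show k ≤ N by omega)]
    exact key (N - k) (by omega) (by omega)

/-- The indicator of a set. -/
def ind (S : Finset ι) : ι → ℤˣ := fun i => if i ∈ S then -1 else 1

theorem ind_injective : Function.Injective (ind : Finset ι → ι → ℤˣ) := by
  intro S T h
  ext i
  have h1 := congrFun h i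
  unfold ind at h1
  by_cases hS : i ∈ S <;> by_cases hT : i ∈ T <;> simp_all

theorem prod_ind (S : Finset ι) : ∏ i, ind S i = (-1) ^ S.card := by
  unfold ind
  rw [Finset.prod_ite_mem, Finset.univ_inter, Finset.prod_const]

/-- Two finsets of the same size with at least two elements are conjugate under an even permutation. -/
theorem exists_even_map {S S' : Finset ι} (h : S.card = S'.card) (h2 : 2 ≤ S.card) :
    ∃ σ ∈ alternatingGroup ι, ind S ∘ σ = ind S' := by
  -- a bijection mapping S' to S
  obtain ⟨σ, hσ⟩ : ∃ σ : Equiv.Perm ι, ∀ x, σ x ∈ S ↔ x ∈ S' := by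
    have e : {x // x ∈ S'} ≃ {x // x ∈ S} := Fintype.equivOfCardEq (by simp [h])
    have e' : {x // x ∉ S'} ≃ {x // x ∉ S} := Fintype.equivOfCardEq (by
      rw [Fintype.card_subtype_compl, Fintype.card_subtype_compl, Fintype.card_coe, Fintype.card_coe, h])
    refine ⟨Equiv.subtypeCongr e e', fun x => ?_⟩
    by_cases hx : x ∈ S'
    · simp only [hx, iff_true]
      have h1 : Equiv.subtypeCongr e e' x = e ⟨x, hx⟩ := by
        simp [Equiv.subtypeCongr, Equiv.sumCompl_symm_apply_of_pos hx]
      rw [h1]
      exact (e ⟨x, hx⟩).2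
    · simp only [hx, iff_false]
      have h1 : Equiv.subtypeCongr e e' x = e' ⟨x, hx⟩ := by
        simp [Equiv.subtypeCongr, Equiv.sumCompl_symm_apply_of_neg hx]
      rw [h1]
      exact (e' ⟨x, hx⟩).2
  have hind : ∀ τ : Equiv.Perm ι, (∀ x, τ x ∈ S ↔ x ∈ S') → ind S ∘ τ = ind S' := by
    intro τ hτ
    funext x
    rw [Function.comp_apply, ind, ind]
    simp only [hτ]
  rcases Int.units_eq_one_or (Equiv.Perm.sign σ) with hs | hs
  · exact ⟨σ, Equiv.Perm.mem_alternatingGroup.2 hs, hind σ hσ⟩
  · obtain ⟨a, ha, b, hb, hab⟩ := Finset.one_lt_card.1 (show 1 < S.card by omega)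
    refine ⟨Equiv.swap a b * σ, ?_, hind _ fun x => ?_⟩
    · rw [Equiv.Perm.mem_alternatingGroup, Equiv.Perm.sign_mul, Equiv.Perm.sign_swap hab, hs]
      decide
    · rw [← hσ x, Equiv.Perm.mul_apply]
      by_cases h1 : σ x = a
      · rw [h1, Equiv.swap_apply_left]; simp [ha, hb]
      by_cases h3 : σ x = b
      · rw [h3, Equiv.swap_apply_right]; simp [ha, hb]
      rw [Equiv.swap_apply_of_ne_of_ne h1 h3]

variable {T : Type*} [Group T]

/-- The data: a homomorphism from the even sign vectors, normalised by the even permutations. -/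
structure Dat (δ : ev ι →* T) : Prop where
  ker : ∀ c : ev ι, δ c = 1 ↔ ((c : ι → ℤˣ) = fun _ => 1) ∨ ((c : ι → ℤˣ) = fun _ => -1)
  perm : ∀ σ ∈ alternatingGroup ι, ∃ g : T, ∀ c, g * δ c * g⁻¹ = δ (cs σ c)
  mod : Fintype.card ι % 4 = 2
  six : 6 ≤ Fintype.card ι

variable {δ : ev ι →* T}

theorem Dat.exists_norm (D : Dat δ) {σ : Equiv.Perm ι} (hσ : σ ∈ alternatingGroup ι) :
    ∃ y : Subgroup.normalizer (δ.range : Set T), ∀ c, (y : T) * δ c * (y : T)⁻¹ = δ (cs σ c) := by
  obtain ⟨g, hg⟩ := D.perm σ hσ
  refine ⟨⟨g, ?_⟩, hg⟩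
  rw [Subgroup.mem_normalizer_iff]
  intro h
  constructor
  · rintro ⟨c, rfl⟩
    exact ⟨cs σ c, (hg c).symm⟩
  · rintro ⟨c, hc⟩
    refine ⟨cs σ⁻¹ c, ?_⟩
    have h1 := hg (cs σ⁻¹ c)
    rw [cs_cs, inv_mul_cancel, cs_one, hc] at h1
    have h2 : g * δ (cs σ⁻¹ c) = g * h := mul_right_cancel h1
    exact mul_left_cancel h2

/-- the subgroup of the normaliser -/
def AA (δ : ev ι →* T) : Subgroup (Subgroup.normalizer (δ.range : Set T)) :=
  δ.range.subgroupOf (Subgroup.normalizer (δ.range : Set T))

instance : (AA δ).Normal := Subgroup.normal_in_normalizer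

/-- `δ` as a homomorphism to the subgroup. -/
def dA (δ : ev ι →* T) : ev ι →* AA δ where
  toFun c := ⟨⟨δ c, Subgroup.le_normalizer ⟨c, rfl⟩⟩, ⟨c, rfl⟩⟩
  map_one' := by
    apply Subtype.ext; apply Subtype.ext
    exact map_one δ
  map_mul' a b := by
    apply Subtype.ext; apply Subtype.ext
    exact map_mul δ a b

theorem coe_dA (c : ev ι) : (((dA δ c : AA δ) : Subgroup.normalizer (δ.range : Set T)) : T) = δ c := rfl

theorem dA_surjective : Function.Surjective (dA δ) := by
  rintro ⟨⟨x, hx⟩, ⟨c, hc⟩⟩
  exact ⟨c, Subtype.ext (Subtype.ext hc)⟩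

theorem ev_sq (c : ev ι) : c * c = 1 := by
  apply Subtype.ext
  funext i
  exact Int.units_mul_self _

theorem Dat.big (D : Dat δ) : Big (AA δ) (Fintype.card ι * (Fintype.card ι - 1) / 2) where
  fin := Finite.of_surjective (dA δ) dA_surjective
  comm a b := by
    obtain ⟨c, rfl⟩ := dA_surjective a
    obtain ⟨d, rfl⟩ := dA_surjective b
    rw [← map_mul, ← map_mul]
    congr 1
    exact Subtype.ext (mul_comm _ _)
  sq a := by
    obtain ⟨c, rfl⟩ := dA_surjective a
    rw [← map_mul, ev_sq, map_one]
  irr B hBA hB := by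
    have h6 := D.six
    let f : ev ι →* Subgroup.normalizer (δ.range : Set T) := (AA δ).subtype.comp (dA δ)
    let B' : Subgroup (ev ι) := B.comap f
    by_cases hb : B = ⊥
    · exact Or.inl hb
    right
    apply le_antisymm hBA
    obtain ⟨⟨b, hbB⟩, hb1'⟩ := (Subgroup.ne_bot_iff_exists_ne_one (H := B)).1 hb
    have hb1 : b ≠ 1 := fun h => hb1' (Subtype.ext h)
    obtain ⟨c, hc⟩ := dA_surjective (δ := δ) ⟨b, hBA hbB⟩
    have hcB : c ∈ B' := by
      change ((dA δ c : AA δ) : Subgroup.normalizer (δ.range : Set T)) ∈ B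
      rw [hc]
      exact hbB
    have hne : ∃ i j, (c : ι → ℤˣ) i ≠ (c : ι → ℤˣ) j := by
      by_contra hcon
      push Not at hcon
      have h0 : Nonempty ι := Fintype.card_pos_iff.1 (by omega)
      obtain ⟨i0⟩ := h0
      apply hb1
      have h1 : δ c = 1 := by
        rw [D.ker]
        rcases Int.units_eq_one_or ((c : ι → ℤˣ) i0) with h | h
        · left; funext i; rw [hcon i i0, h]
        · right; funext i; rw [hcon i i0, h]
      have h2 : dA δ c = 1 := Subtype.ext (Subtype.ext h1)
      rw [h2] at hc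
      exact (congrArg Subtype.val hc).symm
    obtain ⟨i, j, hij⟩ := hne
    have htop : B' = ⊤ := by
      refine irr_ev (by omega) ?_ hcB hij
      intro σ hσ d hd
      obtain ⟨y, hy⟩ := D.exists_norm hσ
      have h1 := hB y _ hd
      have h2 : y * f d * y⁻¹ = f (cs σ d) := Subtype.ext (hy d)
      rw [h2] at h1
      exact h1
    intro a ha
    obtain ⟨d, hd⟩ := dA_surjective (δ := δ) ⟨a, ha⟩
    have h1 : d ∈ B' := by rw [htop]; trivial
    have h2 : ((dA δ d : AA δ) : Subgroup.normalizer (δ.range : Set T)) ∈ B := h1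
    rw [hd] at h2
    exact h2
  orb lam hlam := by
    have h6 := D.six
    have hmod := D.mod
    obtain ⟨h, hh⟩ := exists_pair (lam.comp (dA δ))
    have hh' : ∀ c, lam (dA δ c) = pair h c := hh
    -- the product of `h`
    let n1 : ev ι := ⟨fun _ => -1, by
      rw [mem_ev, Finset.prod_const, Finset.card_univ]
      exact Even.neg_one_pow (by rw [Nat.even_iff]; omega)⟩
    have hprod : ∏ i, h i = 1 := by
      rw [← pair_neg]
      have h1 : δ n1 = 1 := (D.ker n1).2 (Or.inr rfl)
      have h2 : dA δ n1 = 1 := Subtype.ext (Subtype.ext h1)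
      have h3 := hh' n1
      rw [h2, map_one] at h3
      exact h3.symm
    let S : Finset ι := Finset.univ.filter fun i => h i = -1
    have hS : ind S = h := by
      funext i
      unfold ind
      rcases Int.units_eq_one_or (h i) with h1 | h1
      · rw [if_neg, h1]
        simp only [S, Finset.mem_filter, Finset.mem_univ, true_and, h1]
        decide
      · rw [if_pos, h1]
        simp only [S, Finset.mem_filter, Finset.mem_univ, true_and, h1]
    have heven : Even S.card := by
      rw [← hS, prod_ind] at hprod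
      by_contra hodd
      rw [Nat.not_even_iff_odd] at hodd
      rw [hodd.neg_one_pow] at hprod
      exact absurd hprod (by decide)
    -- `h` is not constant
    have hconst : ∀ u : ℤˣ, h ≠ fun _ => u := by
      intro u hu
      apply hlam
      ext a
      obtain ⟨c, rfl⟩ := dA_surjective a
      rw [hh', hu, pair_const, mem_ev.1 c.2, bs_one_right]
      rfl
    have hS0 : S.card ≠ 0 := by
      intro h0
      apply hconst 1
      rw [← hS, Finset.card_eq_zero.1 h0]
      funext i
      simp [ind]
    have hSN : S.card ≠ Fintype.card ι := by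
      intro h0
      apply hconst (-1)
      rw [← hS, (Finset.card_eq_iff_eq_univ S).1 h0]
      funext i
      simp [ind]
    have hle : S.card ≤ Fintype.card ι := Finset.card_le_univ S
    obtain ⟨s, hs⟩ := heven
    have h2 : 2 ≤ S.card := by omega
    have h3 : S.card + 2 ≤ Fintype.card ι := by omega
    -- the orbit
    have hex : ∀ S' : Finset ι, S'.card = S.card → ∃ mu ∈ orbSet (AA δ) lam, ∀ c, mu (dA δ c) = pair (ind S') c := by
      intro S' hS'
      obtain ⟨σ, hσ, hσS⟩ := exists_even_map hS'.symm h2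
      obtain ⟨y, hy⟩ := D.exists_norm (Subgroup.inv_mem _ hσ)
      refine ⟨_, ⟨y, rfl⟩, fun c => ?_⟩
      have h4 : (MulAut.conjNormal y : MulAut (AA δ)) (dA δ c) = dA δ (cs σ⁻¹ c) := by
        apply Subtype.ext
        apply Subtype.ext
        rw [MulAut.conjNormal_apply]
        exact hy c
      change lam ((MulAut.conjNormal y : MulAut (AA δ)) (dA δ c)) = _
      rw [h4, hh', ← hσS, hS, ← pair_comp h _ σ, coe_cs]
      congr 1
      funext i
      simp
    choose mu hmu hmuc using hex
    have hfin : Finite (AA δ) := Finite.of_surjective (dA δ) dA_surjective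
    have hfinite : (orbSet (AA δ) lam).Finite := Set.toFinite _
    have hinj : ∀ S₁ (h₁ : S₁.card = S.card) S₂ (h₂ : S₂.card = S.card), mu S₁ h₁ = mu S₂ h₂ → S₁ = S₂ := by
      intro S₁ h₁ S₂ h₂ he
      have h4 : ∀ c : ev ι, pair (ind S₁) c = pair (ind S₂) c := fun c => by
        rw [← hmuc S₁ h₁, ← hmuc S₂ h₂, he]
      have h5 : ∀ i j, ind S₁ i * ind S₁ j = ind S₂ i * ind S₂ j := fun i j => by
        rw [← pair_fl, ← pair_fl]; exact h4 _
      obtain ⟨i0⟩ : Nonempty ι := Fintype.card_pos_iff.1 (by omega)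
      by_cases h7 : ind S₁ i0 = ind S₂ i0
      · apply ind_injective
        funext i
        have h8 := h5 i i0
        rw [h7] at h8
        exact mul_right_cancel h8
      · exfalso
        have h9 : ∀ i, i ∈ S₁ ↔ i ∉ S₂ := by
          intro i
          have h8 := h5 i i0
          have key : ∀ a b c d : ℤˣ, ¬ b = d → a * b = c * d → (a = -1 ↔ ¬ c = -1) := by decide
          have h10 := key _ _ _ _ h7 h8
          have e1 : ∀ S' : Finset ι, ind S' i = -1 ↔ i ∈ S' := by
            intro S'
            unfold ind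
            by_cases hi : i ∈ S'
            · simp [hi]
            · simp only [hi, if_false, iff_false]; decide
          rwa [e1, e1] at h10
        have h11 : S₁ = S₂ᶜ := by
          ext i
          rw [Finset.mem_compl, h9]
        have h12 : S₁.card = Fintype.card ι - S₂.card := by rw [h11, Finset.card_compl]
        omega
    have hcard : (Fintype.card ι).choose S.card ≤ (orbSet (AA δ) lam).ncard := by
      have h4 : (Finset.powersetCard S.card (Finset.univ : Finset ι)).card = (Fintype.card ι).choose S.card := by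
        rw [Finset.card_powersetCard, Finset.card_univ]
      rw [← h4, Set.ncard_eq_toFinset_card _ hfinite]
      refine Finset.card_le_card_of_injOn
        (fun S' => if hS' : S'.card = S.card then mu S' hS' else lam) ?_ ?_
      · intro S' hS'
        have h5 := (Finset.mem_powersetCard.1 (Finset.mem_coe.1 hS')).2
        rw [Finset.mem_coe, Set.Finite.mem_toFinset]
        simp only [dif_pos h5]
        exact hmu S' h5
      · intro S₁ hS₁ S₂ hS₂ he
        have h5 := (Finset.mem_powersetCard.1 (Finset.mem_coe.1 hS₁)).2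
        have h7 := (Finset.mem_powersetCard.1 (Finset.mem_coe.1 hS₂)).2
        simp only [dif_pos h5, dif_pos h7] at he
        exact hinj _ h5 _ h7 he
    refine le_trans ?_ hcard
    rw [← Nat.choose_two_right]
    exact choose_two_le h2 h3

end Cfsg.Agent.H886.Sq
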