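import Mathlib
import Cfsg.Agent.H888.C6.FTHom

/-!
# Even sign changes and even permutations: the structure `Big` (helper886)
-/

set_option autoImplicit false
set_option linter.unusedSectionVars false

namespace Cfsg.Agent.H886.Sq

open Cfsg.Agent.H888.C6

variable {ι : Type} [Fintype ι] [DecidableEq ι]

/-- The pairing of signs. -/
def bs (u v : ℤˣ) : ℤˣ := if u = -1 then v else 1

theorem bs_mul_right (u v w : ℤˣ) : bs u (v * w) = bs u v * bs u w := by
  unfold bs; split_ifs <;> simp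

theorem bs_mul_left (u v w : ℤˣ) : bs (u * v) w = bs u w * bs v w := by
  revert u v w; decide

theorem bs_comm (u v : ℤˣ) : bs u v = bs v u := by revert u v; decide

theorem bs_one_right (u : ℤˣ) : bs u 1 = 1 := by unfold bs; split_ifs <;> rfl

theorem bs_one_left (u : ℤˣ) : bs 1 u = 1 := by rw [bs_comm, bs_one_right]

theorem bs_neg_one (u : ℤˣ) : bs u (-1) = u := by revert u; decide

/-- The pairing of sign vectors. -/
def pair (h c : ι → ℤˣ) : ℤˣ := ∏ i, bs (h i) (c i)

theorem pair_mul_right (h c d : ι → ℤˣ) : pair h (c * d) = pair h c * pair h d := by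
  unfold pair
  rw [← Finset.prod_mul_distrib]
  exact Finset.prod_congr rfl fun i _ => bs_mul_right _ _ _

theorem pair_mulSingle (h : ι → ℤˣ) (i : ι) : pair h (Pi.mulSingle i (-1)) = h i := by
  unfold pair
  rw [Finset.prod_eq_single i]
  · rw [Pi.mulSingle_eq_same, bs_neg_one]
  · intro j _ hj
    rw [Pi.mulSingle_eq_of_ne hj, bs_one_right]
  · intro h; exact absurd (Finset.mem_univ _) h

theorem pair_comp (h c : ι → ℤˣ) (σ : Equiv.Perm ι) : pair (h ∘ σ) (c ∘ σ) = pair h c :=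
  Equiv.prod_comp σ (fun i => bs (h i) (c i))

theorem pair_neg (h : ι → ℤˣ) : pair h (fun _ => -1) = ∏ i, h i :=
  Finset.prod_congr rfl fun i _ => bs_neg_one _

theorem pair_const (u : ℤˣ) (c : ι → ℤˣ) : pair (fun _ => u) c = bs u (∏ i, c i) := by
  let f : ℤˣ →* ℤˣ := MonoidHom.mk' (bs u) (bs_mul_right u)
  exact (map_prod f c Finset.univ).symm

/-- Sign vectors of product one. -/
def ev (ι : Type) [Fintype ι] [DecidableEq ι] : Subgroup (ι → ℤˣ) where
  carrier := {c | ∏ i, c i = 1}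
  one_mem' := by simp
  mul_mem' {a b} ha hb := by
    change ∏ i, (a i * b i) = 1
    rw [Finset.prod_mul_distrib]
    change ∏ i, a i = 1 at ha
    change ∏ i, b i = 1 at hb
    rw [ha, hb, one_mul]
  inv_mem' {a} ha := by
    change ∏ i, (a i)⁻¹ = 1
    change ∏ i, a i = 1 at ha
    rw [Finset.prod_inv_distrib, ha, inv_one]

theorem mem_ev {c : ι → ℤˣ} : c ∈ ev ι ↔ ∏ i, c i = 1 := Iff.rfl

theorem prod_mulSingle (i : ι) (u : ℤˣ) : ∏ j, (Pi.mulSingle i u : ι → ℤˣ) j = u := by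
  rw [Finset.prod_eq_single i]
  · rw [Pi.mulSingle_eq_same]
  · intro j _ hj
    rw [Pi.mulSingle_eq_of_ne hj]
  · intro h; exact absurd (Finset.mem_univ _) h

/-- The flip of two coordinates. -/
def fl (i j : ι) : ev ι := ⟨Pi.mulSingle i (-1) * Pi.mulSingle j (-1), by
  rw [mem_ev]
  simp only [Pi.mul_apply]
  rw [Finset.prod_mul_distrib, prod_mulSingle, prod_mulSingle]
  decide⟩

theorem pair_fl (h : ι → ℤˣ) (i j : ι) : pair h (fl i j) = h i * h j := by
  change pair h (Pi.mulSingle i (-1) * Pi.mulSingle j (-1)) = _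
  rw [pair_mul_right, pair_mulSingle, pair_mulSingle]

/-- The retraction on `ev`. -/
def retr (i0 : ι) : (ι → ℤˣ) →* ev ι where
  toFun c := ⟨c * Pi.mulSingle i0 (∏ i, c i), by
    rw [mem_ev]
    simp only [Pi.mul_apply]
    rw [Finset.prod_mul_distrib, prod_mulSingle]
    exact Int.units_mul_self _⟩
  map_one' := by
    apply Subtype.ext
    simp
  map_mul' a b := by
    apply Subtype.ext
    simp only [Subgroup.coe_mul, Pi.mul_apply, Finset.prod_mul_distrib, Pi.mulSingle_mul]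
    exact mul_mul_mul_comm _ _ _ _

theorem retr_of_mem (i0 : ι) (c : ev ι) : retr i0 c = c := by
  apply Subtype.ext
  change (c : ι → ℤˣ) * (Pi.mulSingle i0 (∏ i, (c : ι → ℤˣ) i) : ι → ℤˣ) = c
  rw [mem_ev.1 c.2]
  simp

/-- The characters of `ev`. -/
theorem exists_pair (f : ev ι →* ℤˣ) : ∃ h : ι → ℤˣ, ∀ c : ev ι, f c = pair h c := by
  by_cases hne : Nonempty ι
  · obtain ⟨i0⟩ := hne
    refine ⟨fun i => f (retr i0 (Pi.mulSingle i (-1))), fun c => ?_⟩
    have h1 : f c = ∏ i, f (retr i0 (Pi.mulSingle i ((c : ι → ℤˣ) i))) := by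
      rw [← map_prod f, ← map_prod (retr i0), Finset.univ_prod_mulSingle, retr_of_mem]
    rw [h1, pair]
    refine Finset.prod_congr rfl fun i _ => ?_
    rcases Int.units_eq_one_or ((c : ι → ℤˣ) i) with h2 | h2
    · rw [h2, Pi.mulSingle_one, map_one, map_one, bs_one_right]
    · rw [h2, bs_neg_one]
  · refine ⟨fun _ => 1, fun c => ?_⟩
    have : c = 1 := Subtype.ext (funext fun i => absurd ⟨i⟩ hne)
    rw [this, map_one]
    unfold pair
    rw [Finset.prod_eq_one]
    intro i _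
    exact absurd ⟨i⟩ hne

/-- Permutation of the coordinates. -/
def cs (σ : Equiv.Perm ι) : ev ι →* ev ι where
  toFun c := ⟨(c : ι → ℤˣ) ∘ σ, by
    rw [mem_ev]
    exact (Equiv.prod_comp σ (c : ι → ℤˣ)).trans c.2⟩
  map_one' := rfl
  map_mul' _ _ := rfl

theorem coe_cs (σ : Equiv.Perm ι) (c : ev ι) : (cs σ c : ι → ℤˣ) = (c : ι → ℤˣ) ∘ σ := rfl

theorem cs_cs (σ τ : Equiv.Perm ι) (c : ev ι) : cs σ (cs τ c) = cs (τ * σ) c := rfl

theorem cs_one (c : ev ι) : cs 1 c = c := rfl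

/-- `fl` generates. -/
theorem le_of_fl {B : Subgroup (ev ι)} (h : ∀ i j, i ≠ j → fl i j ∈ B) : B = ⊤ := by
  rw [eq_top_iff]
  intro c _
  by_cases hne : Nonempty ι
  · obtain ⟨i0⟩ := hne
    rw [← retr_of_mem i0 c, ← Finset.univ_prod_mulSingle (c : ι → ℤˣ), map_prod]
    refine Subgroup.prod_mem _ fun i _ => ?_
    rcases Int.units_eq_one_or ((c : ι → ℤˣ) i) with h2 | h2
    · rw [h2, Pi.mulSingle_one, map_one]
      exact B.one_mem
    · rw [h2]
      have e : retr i0 (Pi.mulSingle i (-1)) = fl i i0 := by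
        apply Subtype.ext
        change (Pi.mulSingle i (-1) : ι → ℤˣ) *
          (Pi.mulSingle i0 (∏ j, (Pi.mulSingle i (-1) : ι → ℤˣ) j) : ι → ℤˣ) = _
        rw [prod_mulSingle]
        rfl
      rw [e]
      by_cases hi : i = i0
      · subst hi
        have : fl i i = 1 := by
          apply Subtype.ext
          change Pi.mulSingle i (-1) * Pi.mulSingle i (-1) = (1 : ι → ℤˣ)
          rw [← Pi.mulSingle_mul]
          simp
        rw [this]
        exact B.one_mem
      · exact h i i0 hi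
  · have : c = 1 := Subtype.ext (funext fun i => absurd ⟨i⟩ hne)
    rw [this]
    exact B.one_mem

theorem cs_fl (σ : Equiv.Perm ι) (i j : ι) : cs σ (fl (σ i) (σ j)) = fl i j := by
  apply Subtype.ext
  rw [coe_cs]
  have key : ∀ a : ι, (Pi.mulSingle (σ a) (-1) : ι → ℤˣ) ∘ σ = Pi.mulSingle a (-1) := by
    intro a
    funext b
    rw [Function.comp_apply, Pi.mulSingle_apply, Pi.mulSingle_apply]
    congr 1
    rw [σ.injective.eq_iff]
  change ((Pi.mulSingle (σ i) (-1) : ι → ℤˣ) * (Pi.mulSingle (σ j) (-1) : ι → ℤˣ)) ∘ σ = _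
  change ((Pi.mulSingle (σ i) (-1) : ι → ℤˣ) ∘ σ) * ((Pi.mulSingle (σ j) (-1) : ι → ℤˣ) ∘ σ) = _
  rw [key, key]
  rfl

/-- Even permutations are 2-transitive. -/
theorem exists_even_two (h4 : 4 ≤ Fintype.card ι) {i j k l : ι} (hij : i ≠ j) (hkl : k ≠ l) :
    ∃ σ ∈ alternatingGroup ι, σ i = k ∧ σ j = l := by
  obtain ⟨σ, h1, h2⟩ : ∃ σ : Equiv.Perm ι, σ i = k ∧ σ j = l := by
    let τ := Equiv.swap i k
    have hτ : τ j ≠ k := by
      intro h
      have : τ i = k := Equiv.swap_apply_left i k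
      exact hij (τ.injective (this.trans h.symm))
    refine ⟨Equiv.swap (τ j) l * τ, ?_, ?_⟩
    · rw [Equiv.Perm.mul_apply, Equiv.swap_apply_left]
      exact Equiv.swap_apply_of_ne_of_ne hτ.symm hkl
    · rw [Equiv.Perm.mul_apply, Equiv.swap_apply_left]
  rcases Int.units_eq_one_or (Equiv.Perm.sign σ) with hs | hs
  · exact ⟨σ, Equiv.Perm.mem_alternatingGroup.2 hs, h1, h2⟩
  · obtain ⟨a, b, hab, ha, hb⟩ : ∃ a b : ι, a ≠ b ∧ a ∉ ({k, l} : Finset ι) ∧ b ∉ ({k, l} : Finset ι) := by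
      have h3 : 1 < ({k, l}ᶜ : Finset ι).card := by
        rw [Finset.card_compl]
        have := Finset.card_le_two (a := k) (b := l)
        omega
      obtain ⟨a, ha, b, hb, hab⟩ := Finset.one_lt_card.1 h3
      exact ⟨a, b, hab, Finset.mem_compl.1 ha, Finset.mem_compl.1 hb⟩
    simp only [Finset.mem_insert, Finset.mem_singleton, not_or] at ha hb
    refine ⟨Equiv.swap a b * σ, ?_, ?_, ?_⟩
    · rw [Equiv.Perm.mem_alternatingGroup, Equiv.Perm.sign_mul, Equiv.Perm.sign_swap hab, hs]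
      decide
    · rw [Equiv.Perm.mul_apply, h1]
      exact Equiv.swap_apply_of_ne_of_ne (Ne.symm ha.1) (Ne.symm hb.1)
    · rw [Equiv.Perm.mul_apply, h2]
      exact Equiv.swap_apply_of_ne_of_ne (Ne.symm ha.2) (Ne.symm hb.2)

/-- **Irreducibility of `ev` modulo constants.** -/
theorem irr_ev (h4 : 4 ≤ Fintype.card ι) {B : Subgroup (ev ι)}
    (hinv : ∀ σ ∈ alternatingGroup ι, ∀ c ∈ B, cs σ c ∈ B) {c : ev ι} (hc : c ∈ B) {i j : ι}
    (hij : (c : ι → ℤˣ) i ≠ (c : ι → ℤˣ) j) : B = ⊤ := by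
  have hne : i ≠ j := by rintro rfl; exact hij rfl
  obtain ⟨k, hk⟩ : ∃ k, k ∉ ({i, j} : Finset ι) := by
    by_contra hcon
    push Not at hcon
    have h1 : (Finset.univ : Finset ι).card ≤ ({i, j} : Finset ι).card :=
      Finset.card_le_card (fun x _ => hcon x)
    rw [Finset.card_univ] at h1
    have h2 := Finset.card_le_two (a := i) (b := j)
    omega
  simp only [Finset.mem_insert, Finset.mem_singleton, not_or] at hk
  obtain ⟨hki, hkj⟩ := hk
  -- the 3-cycle i → j → k → i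
  let σ : Equiv.Perm ι := Equiv.swap i j * Equiv.swap j k
  have hσi : σ i = j := by
    simp only [σ, Equiv.Perm.mul_apply]
    rw [Equiv.swap_apply_of_ne_of_ne hne (Ne.symm hki), Equiv.swap_apply_left]
  have hσj : σ j = k := by
    simp only [σ, Equiv.Perm.mul_apply]
    rw [Equiv.swap_apply_left, Equiv.swap_apply_of_ne_of_ne hki hkj]
  have hσk : σ k = i := by
    simp only [σ, Equiv.Perm.mul_apply]
    rw [Equiv.swap_apply_right, Equiv.swap_apply_right]
  have hσo : ∀ x, x ≠ i → x ≠ j → x ≠ k → σ x = x := by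
    intro x h1 h2 h3
    simp only [σ, Equiv.Perm.mul_apply]
    rw [Equiv.swap_apply_of_ne_of_ne h2 h3, Equiv.swap_apply_of_ne_of_ne h1 h2]
  have hσA : σ ∈ alternatingGroup ι := by
    rw [Equiv.Perm.mem_alternatingGroup, Equiv.Perm.sign_mul, Equiv.Perm.sign_swap hne,
      Equiv.Perm.sign_swap (Ne.symm hkj)]
    decide
  have hd := B.mul_mem hc (hinv σ hσA c hc)
  have hprod : (c : ι → ℤˣ) i * (c : ι → ℤˣ) j = -1 := by
    have : ∀ u v : ℤˣ, u ≠ v → u * v = -1 := by decide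
    exact this _ _ hij
  -- d is a flip
  obtain ⟨a, b, hab, hflip⟩ : ∃ a b : ι, a ≠ b ∧ c * cs σ c = fl a b := by
    have hval : ∀ x, (c * cs σ c : ev ι).1 x = (c : ι → ℤˣ) x * (c : ι → ℤˣ) (σ x) := fun x => rfl
    by_cases hck : (c : ι → ℤˣ) k = (c : ι → ℤˣ) i
    · refine ⟨i, j, hne, ?_⟩
      apply Subtype.ext
      funext x
      rw [hval]
      change _ = (Pi.mulSingle i (-1) : ι → ℤˣ) x * (Pi.mulSingle j (-1) : ι → ℤˣ) x
      rw [Pi.mulSingle_apply, Pi.mulSingle_apply]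
      by_cases h1 : x = i
      · subst h1; rw [hσi, hprod, if_pos rfl, if_neg hne, mul_one]
      by_cases h2 : x = j
      · subst h2; rw [hσj, hck, mul_comm, hprod, if_pos rfl, if_neg h1, one_mul]
      rw [if_neg h1, if_neg h2, one_mul]
      by_cases h3 : x = k
      · subst h3; rw [hσk, hck]; exact Int.units_mul_self _
      · rw [hσo x h1 h2 h3]; exact Int.units_mul_self _
    · have hck' : (c : ι → ℤˣ) k = (c : ι → ℤˣ) j := by
        have : ∀ u v w : ℤˣ, u ≠ v → w ≠ u → w = v := by decide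
        exact this _ _ _ hij hck
      refine ⟨i, k, Ne.symm hki, ?_⟩
      apply Subtype.ext
      funext x
      rw [hval]
      change _ = (Pi.mulSingle i (-1) : ι → ℤˣ) x * (Pi.mulSingle k (-1) : ι → ℤˣ) x
      rw [Pi.mulSingle_apply, Pi.mulSingle_apply]
      by_cases h1 : x = i
      · subst h1; rw [hσi, hprod, if_pos rfl, if_neg (Ne.symm hki), mul_one]
      by_cases h3 : x = k
      · subst h3; rw [hσk, hck', mul_comm, hprod, if_pos rfl, if_neg h1, one_mul]
      rw [if_neg h1, if_neg h3, one_mul]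
      by_cases h2 : x = j
      · subst h2; rw [hσj, hck']; exact Int.units_mul_self _
      · rw [hσo x h1 h2 h3]; exact Int.units_mul_self _
  rw [hflip] at hd
  apply le_of_fl
  intro x y hxy
  obtain ⟨τ, hτ, h1, h2⟩ := exists_even_two h4 hxy hab
  have h3 := hinv τ hτ _ hd
  rwa [← h1, ← h2, cs_fl] at h3

end Cfsg.Agent.H886.Sq
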