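import Cfsg.Agent.H886.Sq.Big
import Cfsg.Prelude.Def_GeometricClasses

/-!
# The degree bound for a group with even sign changes (helper886)
-/

set_option autoImplicit false
set_option linter.unusedSectionVars false

namespace Cfsg.Agent.H886.Sq

open Cfsg Cfsg.Agent.H888.C6 Matrix

universe u

variable {ι : Type} [Fintype ι] [DecidableEq ι] {T : Type*} [Group T] {δ : ev ι →* T}

theorem card_fun_le : 2 ^ Fintype.card ι ≤ 2 * Nat.card (ev ι) := by
  let f : (ι → ℤˣ) →* ℤˣ :=
    { toFun := fun c => ∏ i, c i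
      map_one' := by simp
      map_mul' := fun a b => Finset.prod_mul_distrib }
  have hker : f.ker = ev ι := rfl
  have h1 := Subgroup.card_mul_index f.ker
  have h2 : f.ker.index ≤ 2 := by
    rw [Subgroup.index_ker]
    have h3 : Nat.card f.range ≤ Nat.card ℤˣ := Subgroup.card_le_card_group f.range
    have h4 : Nat.card ℤˣ = 2 := by rw [Nat.card_eq_fintype_card]; rfl
    omega
  have h5 : Nat.card (ι → ℤˣ) = 2 ^ Fintype.card ι := by
    rw [Nat.card_eq_fintype_card, Fintype.card_fun]
    rfl
  rw [h5, hker] at h1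
  rw [hker] at h2
  rw [← h1, mul_comm]
  exact Nat.mul_le_mul_right _ h2

theorem Dat.card_le (D : Dat δ) : 2 ^ Fintype.card ι ≤ 4 * Nat.card (AA δ) := by
  have h1 := Subgroup.card_mul_index (dA δ).ker
  have hidx : (dA δ).ker.index = Nat.card (AA δ) := by
    rw [Subgroup.index_ker, MonoidHom.range_eq_top.2 dA_surjective]
    exact Nat.card_congr Subgroup.topEquiv.toEquiv
  have hk : Nat.card (dA δ).ker ≤ 2 := by
    obtain ⟨i0⟩ : Nonempty ι := Fintype.card_pos_iff.1 (by have := D.six; omega)
    have hinj : Function.Injective (fun c : (dA δ).ker => ((c : ev ι) : ι → ℤˣ) i0) := by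
      intro c d hcd
      have hval : ∀ c : (dA δ).ker, (((c : ev ι) : ι → ℤˣ) = fun _ => 1) ∨ (((c : ev ι) : ι → ℤˣ) = fun _ => -1) := by
        intro c
        have h2 : dA δ c = 1 := c.2
        have h3 : δ c = 1 := congrArg (fun x : AA δ => ((x : Subgroup.normalizer (δ.range : Set T)) : T)) h2
        exact (D.ker c).1 h3
      apply Subtype.ext
      apply Subtype.ext
      have hcd' : ((c : ev ι) : ι → ℤˣ) i0 = ((d : ev ι) : ι → ℤˣ) i0 := hcd
      rcases hval c with hc | hc <;> rcases hval d with hd | hd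
      · rw [hc, hd]
      · rw [hc, hd] at hcd'
        change (1 : ℤˣ) = -1 at hcd'
        exact absurd hcd' (by decide)
      · rw [hc, hd] at hcd'
        change (-1 : ℤˣ) = 1 at hcd'
        exact absurd hcd' (by decide)
      · rw [hc, hd]
    have h4 := Nat.card_le_card_of_injective _ hinj
    have h5 : Nat.card ℤˣ = 2 := by rw [Nat.card_eq_fintype_card]; rfl
    omega
  rw [hidx] at h1
  have h3 := card_fun_le (ι := ι)
  calc 2 ^ Fintype.card ι ≤ 2 * Nat.card (ev ι) := h3
    _ = 2 * (Nat.card (dA δ).ker * Nat.card (AA δ)) := by rw [h1]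
    _ ≤ 2 * (2 * Nat.card (AA δ)) := by gcongr
    _ = _ := by ring

/-- **The degree bound.** -/
theorem Dat.le_deg (D : Dat δ) (hN : 10 ≤ Fintype.card ι) {F : Type u} [Field F] (h2 : (2 : F) ≠ 0)
    {κ : Type} [Fintype κ] [DecidableEq κ] [Nonempty κ] (P : Subgroup (GL κ F))
    (e : P ⧸ (Geo.scalars κ F).subgroupOf P ≃* T) : Fintype.card ι ≤ Fintype.card κ := by
  have h6 := D.six
  have hker : ∀ g : P, e (QuotientGroup.mk g) = 1 ↔ ∃ c : F, ((g : GL κ F) : Matrix κ κ F) = c • 1 := by
    intro g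
    rw [map_eq_one_iff e e.injective, QuotientGroup.eq_one_iff, Subgroup.mem_subgroupOf, Geo.mem_scalars_iff]
    constructor
    · rintro ⟨c, hc⟩
      exact ⟨c, hc⟩
    · rintro ⟨c, hc⟩
      have hc0 : c ≠ 0 := by
        rintro rfl
        rw [zero_smul] at hc
        exact (g : GL κ F).ne_zero hc
      exact ⟨Units.mk0 c hc0, hc⟩
  have key := D.big.matrix (K := F) (ι := κ) h2 (Subgroup.normalizer (δ.range : Set T)).subtype (by
      obtain ⟨i, j, hij⟩ : ∃ i j : ι, i ≠ j := by
        have : 1 < Fintype.card ι := by omega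
        exact Fintype.exists_pair_of_one_lt_card this
      obtain ⟨k, hk⟩ : ∃ k, k ∉ ({i, j} : Finset ι) := by
        by_contra hcon
        push Not at hcon
        have h1 : (Finset.univ : Finset ι).card ≤ ({i, j} : Finset ι).card :=
          Finset.card_le_card (fun x _ => hcon x)
        rw [Finset.card_univ] at h1
        have h2 := Finset.card_le_two (a := i) (b := j)
        omega
      simp only [Finset.mem_insert, Finset.mem_singleton, not_or] at hk
      obtain ⟨hki, hkj⟩ := hk
      refine ⟨dA δ (fl i j), (dA δ (fl i j)).2, ?_⟩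
      change δ (fl i j) ≠ 1
      intro h
      have hvi : ((fl i j : ev ι) : ι → ℤˣ) i = -1 := by
        change (Pi.mulSingle i (-1) : ι → ℤˣ) i * (Pi.mulSingle j (-1) : ι → ℤˣ) i = -1
        rw [Pi.mulSingle_eq_same, Pi.mulSingle_eq_of_ne hij, mul_one]
      have hvk : ((fl i j : ev ι) : ι → ℤˣ) k = 1 := by
        change (Pi.mulSingle i (-1) : ι → ℤˣ) k * (Pi.mulSingle j (-1) : ι → ℤˣ) k = 1
        rw [Pi.mulSingle_eq_of_ne hki, Pi.mulSingle_eq_of_ne hkj, mul_one]
      rcases (D.ker _).1 h with h1 | h1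
      · rw [h1] at hvi
        change (1 : ℤˣ) = -1 at hvi
        exact absurd hvi (by decide)
      · rw [h1] at hvk
        change (-1 : ℤˣ) = 1 at hvk
        exact absurd hvk (by decide))
    (π := (e.toMonoidHom).comp (QuotientGroup.mk' _)) (by
      intro y
      obtain ⟨x, hx⟩ := e.surjective ((Subgroup.normalizer (δ.range : Set T)).subtype y)
      obtain ⟨g, rfl⟩ := QuotientGroup.mk_surjective x
      exact ⟨g, hx⟩) P.subtype (fun g hg => (hker g).1 hg) (fun g hg => (hker g).2 hg)
  rcases key with h | h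
  · have h1 := D.card_le
    -- `2 ^ N ≤ 4 d ^ 2`
    have h3 : 2 ^ Fintype.card ι ≤ (2 * Fintype.card κ) ^ 2 := by
      calc 2 ^ Fintype.card ι ≤ 4 * Nat.card (AA δ) := h1
        _ ≤ 4 * Fintype.card κ ^ 2 := by gcongr
        _ = _ := by ring
    by_contra hcon
    push Not at hcon
    have h4 : (2 * Fintype.card κ) ^ 2 < (2 * Fintype.card ι) ^ 2 :=
      Nat.pow_lt_pow_left (by omega) (by norm_num)
    have h5 : ∀ N, 10 ≤ N → (2 * N) ^ 2 ≤ 2 ^ N := by
      intro N hN
      induction N, hN using Nat.le_induction with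
      | base => norm_num
      | succ n hn ih =>
        have h6 : (2 * (n + 1)) ^ 2 ≤ 2 * (2 * n) ^ 2 := by nlinarith
        calc (2 * (n + 1)) ^ 2 ≤ 2 * (2 * n) ^ 2 := h6
          _ ≤ 2 * 2 ^ n := by gcongr
          _ = 2 ^ (n + 1) := by ring
    have := h5 _ hN
    omega
  · have hN2 : 2 * (Fintype.card ι * (Fintype.card ι - 1) / 2) = Fintype.card ι * (Fintype.card ι - 1) :=
      Nat.mul_div_cancel' (Nat.even_mul_pred_self _).two_dvd
    rw [hN2] at h
    by_contra hcon
    push Not at hcon
    have h1 : Fintype.card κ * (Fintype.card κ - 1) ≤ Fintype.card κ * (Fintype.card ι - 1) := by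
      gcongr
    have h3 : Fintype.card κ * (Fintype.card ι - 1) < Fintype.card ι * (Fintype.card ι - 1) := by
      apply Nat.mul_lt_mul_of_pos_right hcon
      omega
    omega

end Cfsg.Agent.H886.Sq
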