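import Cfsg.Agent.H886.Sq.Deg

/-!
# The even sign changes in the orthogonal group of a sum of squares (helper886)
-/

set_option autoImplicit false
set_option linter.unusedSectionVars false

namespace Cfsg.Agent.H886.Sq

open Cfsg Matrix
open scoped commutatorElement

universe u v

variable {ι : Type} [Fintype ι] [DecidableEq ι] {K : Type u} [Field K]

/-- The sum of squares. -/
def sq (ι : Type) [Fintype ι] (K : Type u) [Field K] (v : ι → K) : K := ∑ i, v i * v i

theorem mem_iso {Q : (ι → K) → K} {g : GL ι K} :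
    g ∈ isometryGroup K Q ↔ ∀ v, Q ((g : Matrix ι ι K) *ᵥ v) = Q v :=
  ⟨fun h v => h v v, fun h v _ => h v⟩

theorem sg_mul_self (u : ℤˣ) : (((u : ℤ) : K)) * ((u : ℤ) : K) = 1 := by
  rcases Int.units_eq_one_or u with h | h <;> rw [h] <;> simp

/-- Diagonal sign matrices. -/
def dg : (ι → ℤˣ) →* isometryGroup K (sq ι K) where
  toFun c := ⟨⟨Matrix.diagonal fun i => ((c i : ℤ) : K), Matrix.diagonal fun i => ((c i : ℤ) : K), by
    rw [Matrix.diagonal_mul_diagonal]
    simp only [sg_mul_self]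
    exact Matrix.diagonal_one, by
    rw [Matrix.diagonal_mul_diagonal]
    simp only [sg_mul_self]
    exact Matrix.diagonal_one⟩, by
    rw [mem_iso]
    intro v
    unfold sq
    refine Finset.sum_congr rfl fun i _ => ?_
    change ((Matrix.diagonal fun i => ((c i : ℤ) : K)) *ᵥ v) i * ((Matrix.diagonal fun i => ((c i : ℤ) : K)) *ᵥ v) i = _
    rw [Matrix.mulVec_diagonal, mul_mul_mul_comm, sg_mul_self, one_mul]⟩
  map_one' := by
    apply Subtype.ext
    apply Units.ext
    change Matrix.diagonal (fun i => (((1 : ι → ℤˣ) i : ℤ) : K)) = 1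
    simp
  map_mul' a b := by
    apply Subtype.ext
    apply Units.ext
    change Matrix.diagonal (fun i => (((a * b) i : ℤ) : K)) = Matrix.diagonal _ * Matrix.diagonal _
    rw [Matrix.diagonal_mul_diagonal]
    simp

theorem coe_dg (c : ι → ℤˣ) : (((dg c : isometryGroup K (sq ι K)) : GL ι K) : Matrix ι ι K) =
    Matrix.diagonal fun i => ((c i : ℤ) : K) := rfl

theorem dg_injective (h2 : (2 : K) ≠ 0) : Function.Injective (dg : (ι → ℤˣ) →* isometryGroup K (sq ι K)) := by
  intro c d h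
  have h1 : (Matrix.diagonal fun i => ((c i : ℤ) : K)) = Matrix.diagonal fun i => ((d i : ℤ) : K) := by
    rw [← coe_dg, ← coe_dg, h]
  funext i
  have h3 : ((c i : ℤ) : K) = ((d i : ℤ) : K) := congrFun (Matrix.diagonal_injective h1) i
  have hne : ((1 : ℤ) : K) ≠ ((-1 : ℤ) : K) := by
    intro h4
    apply h2
    rw [Int.cast_neg, Int.cast_one] at h4
    linear_combination h4
  rcases Int.units_eq_one_or (c i) with h4 | h4 <;> rcases Int.units_eq_one_or (d i) with h5 | h5
  · rw [h4, h5]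
  · rw [h4, h5] at h3
    exact absurd h3 hne
  · rw [h4, h5] at h3
    exact absurd h3.symm hne
  · rw [h4, h5]

/-- The matrix with `(M v) i = v (σ⁻¹ i)`. -/
def pmm (σ : Equiv.Perm ι) : Matrix ι ι K := Matrix.of fun i j => if σ⁻¹ i = j then 1 else 0

theorem pmm_mulVec (σ : Equiv.Perm ι) (v : ι → K) (i : ι) : ((pmm σ : Matrix ι ι K) *ᵥ v) i = v (σ⁻¹ i) := by
  unfold pmm
  rw [Matrix.mulVec, dotProduct]
  simp only [Matrix.of_apply, ite_mul, one_mul, zero_mul]
  rw [Finset.sum_ite_eq Finset.univ (σ⁻¹ i) v, if_pos (Finset.mem_univ _)]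

theorem pmm_mul (σ τ : Equiv.Perm ι) : (pmm (σ * τ) : Matrix ι ι K) = pmm σ * pmm τ := by
  apply Matrix.mulVec_injective
  funext v i
  rw [← Matrix.mulVec_mulVec, pmm_mulVec, pmm_mulVec, pmm_mulVec, _root_.mul_inv_rev, Equiv.Perm.mul_apply]

theorem pmm_one : (pmm (1 : Equiv.Perm ι) : Matrix ι ι K) = 1 := by
  apply Matrix.mulVec_injective
  funext v i
  rw [pmm_mulVec, Matrix.one_mulVec, inv_one, Equiv.Perm.one_apply]

/-- Permutation matrices. -/
def pm : Equiv.Perm ι →* isometryGroup K (sq ι K) where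
  toFun σ := ⟨⟨pmm σ, pmm σ⁻¹, by rw [← pmm_mul, mul_inv_cancel, pmm_one],
    by rw [← pmm_mul, inv_mul_cancel, pmm_one]⟩, by
    rw [mem_iso]
    intro v
    unfold sq
    have h : ∀ i, ((pmm σ : Matrix ι ι K) *ᵥ v) i * ((pmm σ : Matrix ι ι K) *ᵥ v) i =
        (fun j => v j * v j) (σ⁻¹ i) := fun i => by rw [pmm_mulVec]
    change ∑ i, ((pmm σ : Matrix ι ι K) *ᵥ v) i * ((pmm σ : Matrix ι ι K) *ᵥ v) i = _
    simp only [h]
    exact Equiv.sum_comp σ⁻¹ (fun j => v j * v j)⟩
  map_one' := Subtype.ext (Units.ext pmm_one)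
  map_mul' σ τ := Subtype.ext (Units.ext (pmm_mul σ τ))

theorem coe_pm (σ : Equiv.Perm ι) : (((pm σ : isometryGroup K (sq ι K)) : GL ι K) : Matrix ι ι K) = pmm σ := rfl

theorem pm_dg (σ : Equiv.Perm ι) (c : ι → ℤˣ) :
    (pm σ⁻¹ : isometryGroup K (sq ι K)) * dg c * (pm σ⁻¹)⁻¹ = dg (c ∘ σ) := by
  rw [mul_inv_eq_iff_eq_mul]
  apply Subtype.ext
  apply Units.ext
  apply Matrix.mulVec_injective
  funext v i
  change ((pmm σ⁻¹ * (Matrix.diagonal fun i => ((c i : ℤ) : K)) : Matrix ι ι K) *ᵥ v) i =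
    (((Matrix.diagonal fun i => (((c ∘ σ) i : ℤ) : K)) * pmm σ⁻¹ : Matrix ι ι K) *ᵥ v) i
  rw [← Matrix.mulVec_mulVec, ← Matrix.mulVec_mulVec, pmm_mulVec, Matrix.mulVec_diagonal, Matrix.mulVec_diagonal,
    pmm_mulVec, inv_inv, Function.comp_apply]

theorem dg_mem (c : ev ι) : (dg (c : ι → ℤˣ) : isometryGroup K (sq ι K)) ∈ Omega K (sq ι K) := by
  let B : Subgroup (ev ι) := (Omega K (sq ι K)).comap ((dg (K := K)).comp (ev ι).subtype)
  have hB : B = ⊤ := by
    apply le_of_fl
    intro i j hij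
    change (dg (Pi.mulSingle i (-1) * Pi.mulSingle j (-1)) : isometryGroup K (sq ι K)) ∈ Omega K (sq ι K)
    let σ : Equiv.Perm ι := Equiv.swap i j
    have h1 : (Pi.mulSingle i (-1) : ι → ℤˣ) ∘ σ = Pi.mulSingle j (-1) := by
      funext b
      rw [Function.comp_apply, Pi.mulSingle_apply, Pi.mulSingle_apply]
      congr 1
      apply propext
      constructor
      · intro h
        have h2 : b = σ.symm i := by rw [← h, Equiv.symm_apply_apply]
        rw [h2]
        simp [σ]
      · rintro rfl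
        simp [σ]
    have hinv : (dg (Pi.mulSingle i (-1)) : isometryGroup K (sq ι K))⁻¹ = dg (Pi.mulSingle i (-1)) := by
      rw [← map_inv]
      congr 1
      rw [← Pi.mulSingle_inv]
      rfl
    rw [map_mul, ← h1, ← pm_dg]
    have : (dg (Pi.mulSingle i (-1)) : isometryGroup K (sq ι K)) *
        (pm σ⁻¹ * dg (Pi.mulSingle i (-1)) * (pm σ⁻¹)⁻¹) =
        ⁅(dg (Pi.mulSingle i (-1)) : isometryGroup K (sq ι K)), pm σ⁻¹⁆ := by
      rw [commutatorElement_def, hinv]
      group
    rw [this]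
    exact Subgroup.commutator_mem_commutator (Subgroup.mem_top _) (Subgroup.mem_top _)
  have h : c ∈ B := by rw [hB]; trivial
  exact h

theorem pm_mem (h5 : 5 ≤ Fintype.card ι) {σ : Equiv.Perm ι} (hσ : σ ∈ alternatingGroup ι) :
    (pm σ : isometryGroup K (sq ι K)) ∈ Omega K (sq ι K) := by
  have h1 : (commutator (Equiv.Perm ι)).map (pm (K := K)) ≤ Omega K (sq ι K) := by
    rw [commutator_def, Subgroup.map_commutator]
    exact Subgroup.commutator_mono le_top le_top
  apply h1
  refine ⟨σ, ?_, rfl⟩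
  have h2 := alternatingGroup.commutator_perm_eq (α := ι) (by rw [Nat.card_eq_fintype_card]; exact h5)
  rw [SetLike.mem_coe, h2]
  exact hσ

/-- Even sign changes in `Ω`. -/
def dO : ev ι →* Omega K (sq ι K) where
  toFun c := ⟨dg (c : ι → ℤˣ), dg_mem c⟩
  map_one' := Subtype.ext (map_one dg)
  map_mul' _ _ := Subtype.ext (map_mul dg _ _)

/-- Even sign changes in `PΩ`. -/
def dP : ev ι →* POmega K (sq ι K) := (QuotientGroup.mk' _).comp dO

theorem dat (h2 : (2 : K) ≠ 0) (h6 : 6 ≤ Fintype.card ι) (hmod : Fintype.card ι % 4 = 2) :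
    Dat (dP (ι := ι) (K := K)) where
  ker c := by
    have h1 : dP (K := K) c = 1 ↔ dO c ∈ Subgroup.center (Omega K (sq ι K)) := QuotientGroup.eq_one_iff _
    rw [h1]
    constructor
    · intro h
      have hcomm : ∀ σ ∈ alternatingGroup ι, (c : ι → ℤˣ) ∘ σ = c := by
        intro σ hσ
        apply dg_injective (K := K) h2
        rw [← pm_dg]
        have h3 := Subgroup.mem_center_iff.1 h ⟨pm σ⁻¹, pm_mem (by omega) (Subgroup.inv_mem _ hσ)⟩
        have h4 : (pm σ⁻¹ : isometryGroup K (sq ι K)) * dg (c : ι → ℤˣ) = dg (c : ι → ℤˣ) * pm σ⁻¹ :=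
          congrArg Subtype.val h3
        rw [h4, mul_inv_cancel_right]
      obtain ⟨i0⟩ : Nonempty ι := Fintype.card_pos_iff.1 (by omega)
      have hconst : ∀ i, (c : ι → ℤˣ) i = (c : ι → ℤˣ) i0 := by
        intro i
        by_cases hi : i0 = i
        · rw [hi]
        obtain ⟨σ, hσ, h3, -⟩ := exists_even_two (by omega) hi (Ne.symm hi)
        have h4 := congrFun (hcomm σ hσ) i0
        rw [Function.comp_apply, h3] at h4
        exact h4
      rcases Int.units_eq_one_or ((c : ι → ℤˣ) i0) with h3 | h3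
      · left; funext i; rw [hconst, h3]
      · right; funext i; rw [hconst, h3]
    · intro h
      have hs : ∃ s : K, (((dO (K := K) c : isometryGroup K (sq ι K)) : GL ι K) : Matrix ι ι K) = s • (1 : Matrix ι ι K) := by
        rcases h with h | h
        · refine ⟨1, ?_⟩
          change (Matrix.diagonal fun i => (((c : ι → ℤˣ) i : ℤ) : K)) = _
          rw [h]
          simp
        · refine ⟨-1, ?_⟩
          change (Matrix.diagonal fun i => (((c : ι → ℤˣ) i : ℤ) : K)) = _
          rw [h, Matrix.smul_one_eq_diagonal]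
          simp
      obtain ⟨s, hs⟩ := hs
      rw [Subgroup.mem_center_iff]
      intro g
      apply Subtype.ext
      apply Subtype.ext
      apply Units.ext
      change (((g : isometryGroup K (sq ι K)) : GL ι K) : Matrix ι ι K) * (((dO (K := K) c : isometryGroup K (sq ι K)) : GL ι K) : Matrix ι ι K) =
        (((dO (K := K) c : isometryGroup K (sq ι K)) : GL ι K) : Matrix ι ι K) * (((g : isometryGroup K (sq ι K)) : GL ι K) : Matrix ι ι K)
      rw [hs, mul_smul_comm, smul_mul_assoc, mul_one, one_mul]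
  perm σ hσ := by
    refine ⟨QuotientGroup.mk ⟨pm σ⁻¹, pm_mem (by omega) (Subgroup.inv_mem _ hσ)⟩, fun c => ?_⟩
    change ((QuotientGroup.mk _ : POmega K (sq ι K)) * QuotientGroup.mk _ * (QuotientGroup.mk _)⁻¹) = QuotientGroup.mk _
    rw [← QuotientGroup.mk_inv, ← QuotientGroup.mk_mul, ← QuotientGroup.mk_mul]
    congr 1
    exact Subtype.ext (pm_dg σ c)
  mod := hmod
  six := h6

/-- **The degree bound for the projective orthogonal group of a sum of squares.** -/
theorem le_deg_sq (h2 : (2 : K) ≠ 0) (h10 : 10 ≤ Fintype.card ι) (hmod : Fintype.card ι % 4 = 2)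
    {F : Type v} [Field F] (h2F : (2 : F) ≠ 0)
    {κ : Type} [Fintype κ] [DecidableEq κ] [Nonempty κ] (P : Subgroup (GL κ F))
    (e : P ⧸ (Geo.scalars κ F).subgroupOf P ≃* POmega K (sq ι K)) : Fintype.card ι ≤ Fintype.card κ :=
  (dat h2 (by omega) hmod).le_deg h10 h2F P e

end Cfsg.Agent.H886.Sq
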